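/-
The maximal destabilising submodule is invariant under automorphisms.
-/
import Groth.Agent.W7Slope.Max
import Groth.Agent.W7Slope.Hom
import Groth.Agent.QuotProj.Model
import Groth.Agent.PnEuler.SplitCI
import Groth.Agent.FlatFunLib.ModCond

set_option autoImplicit false
set_option linter.style.haveILetI false
set_option linter.unusedSectionVars false
set_option backward.isDefEq.respectTransparency false
set_option backward.isDefEq.respectTransparency.types false
set_option maxHeartbeats 1000000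

universe u

open CategoryTheory CategoryTheory.Limits AlgebraicGeometry

noncomputable section

namespace Groth.Agent.MaxInv

open W7Slope

variable (k : Type u) [Field k] {X : Scheme.{u}} [X.Over (Spec (CommRingCat.of k))]
  [IsProper (X ↘ Spec (CommRingCat.of k))] [IsIntegral X]

/-- Two submodules of maximal slope and maximal rank agree. -/
theorem factors_of_max (hX : RegCurve X) {E F F' : X.Modules} {r r₁ : ℕ} (hE : FlatMod.IsFinLocFreeOfRank r E)
    (hr₁ : 0 < r₁) (hF : FlatMod.IsFinLocFreeOfRank r₁ F) (i : F ⟶ E) [Mono i]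
    (hmax : ∀ (G : X.Modules) (r' : ℕ) (j : G ⟶ E), Mono j → 0 < r' → FlatMod.IsFinLocFreeOfRank r' G →
        Curv2.deg k X G r' * (r₁ : ℤ) ≤ Curv2.deg k X F r₁ * (r' : ℤ))
    (hrk : ∀ (G : X.Modules) (r' : ℕ) (j : G ⟶ E), Mono j → 0 < r' → FlatMod.IsFinLocFreeOfRank r' G →
        Curv2.deg k X G r' * (r₁ : ℤ) = Curv2.deg k X F r₁ * (r' : ℤ) → r' ≤ r₁)
    (hF' : FlatMod.IsFinLocFreeOfRank r₁ F') (i' : F' ⟶ E) [Mono i']
    (hd : Curv2.deg k X F' r₁ = Curv2.deg k X F r₁) : ∃ j : F' ⟶ F, j ≫ i = i' := by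
  haveI := CurveRR.isNoetherian_of_proper k X
  have hG := PnEuler.rank_biprod hF hF'
  obtain ⟨I, p, iI, hp, hiI, hfac, hI, hK, hr, -, hsum, -⟩ := exists_image k hX hG hE (biprod.desc i i')
  haveI := hiI
  set t := grk I
  set m := grk (kernel (biprod.desc i i'))
  -- the kernel projects into `F`
  have hKF : Mono (kernel.ι (biprod.desc i i') ≫ biprod.fst) := by
    refine Preadditive.mono_of_cancel_zero _ fun {W} x hx => ?_
    rw [← cancel_mono (kernel.ι _), zero_comp]
    have hx' : (x ≫ kernel.ι (biprod.desc i i')) ≫ biprod.fst = 0 := by rw [Category.assoc]; exact hx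
    refine biprod.hom_ext _ _ (by rw [hx', zero_comp]) ((cancel_mono i').1 ?_)
    have h : (x ≫ kernel.ι (biprod.desc i i')) ≫ (biprod.fst ≫ i + biprod.snd ≫ i') = 0 := by
      rw [← biprod.desc_eq, Category.assoc, kernel.condition, comp_zero]
    rw [Preadditive.comp_add, ← Category.assoc, hx', zero_comp, zero_add, ← Category.assoc] at h
    rw [h, zero_comp, zero_comp]
  have hKd : Curv2.deg k X (kernel (biprod.desc i i')) m * (r₁ : ℤ) ≤ Curv2.deg k X F r₁ * (m : ℤ) := by
    rcases Nat.eq_zero_or_pos m with h | h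
    · rw [h] at hK ⊢
      simp [deg_rank_zero k hK]
    · exact hmax _ m ((kernel.ι (biprod.desc i i') ≫ biprod.fst) ≫ i) (mono_comp _ _) h hK
  let l : F ⟶ I := biprod.inl ≫ p
  have hl : l ≫ iI = i := by rw [Category.assoc, hfac, biprod.inl_desc]
  haveI : Mono (l ≫ iI) := by rw [hl]; infer_instance
  haveI : Mono l := mono_of_mono l iI
  have ht : r₁ ≤ t := by
    have h := grk_le_of_mono k l (CurveRR.isCoh_of_rank hI)
    rwa [grk_of_rank hF] at h
  have hpush : Curv2.deg k X (F ⊞ F') (r₁ + r₁) = 2 * Curv2.deg k X F r₁ := by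
    obtain ⟨a, b, ha, hb, -, h⟩ := biprod_add k hX hG (Iso.refl _)
    obtain rfl := rank_unique k ha hF
    obtain rfl := rank_unique k hb hF'
    rw [h, hd]
    ring
  have hr' : (2 * r₁ : ℤ) = m + t := by
    have : ((r₁ + r₁ : ℕ) : ℤ) = ((m + t : ℕ) : ℤ) := congrArg _ hr
    push_cast at this
    linarith
  have hIle := hmax I t iI hiI (by omega) hI
  set d := Curv2.deg k X F r₁
  have hIge : d * (t : ℤ) ≤ Curv2.deg k X I t * (r₁ : ℤ) := by
    have h₁ : (Curv2.deg k X (kernel (biprod.desc i i')) m + Curv2.deg k X I t) * (r₁ : ℤ) = 2 * d * r₁ := by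
      rw [← hsum, hpush]
    have h₂ : d * (m + t : ℤ) = 2 * d * r₁ := by rw [← hr']; ring
    linarith
  obtain rfl : t = r₁ := le_antisymm (hrk I t iI hiI (by omega) hI (le_antisymm hIle hIge)) ht
  have hdI : d = Curv2.deg k X I t :=
    mul_right_cancel₀ (Nat.cast_ne_zero.2 hr₁.ne') (le_antisymm hIge hIle)
  haveI : IsIso l := (deg_le_of_mono k hX hF hI l).2 hdI
  exact ⟨biprod.inr ≫ p ≫ inv l, by rw [Category.assoc, Category.assoc, (IsIso.inv_comp_eq _).2 hl.symm,
    hfac, biprod.inr_desc]⟩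

/-- Semistability can be tested on invariant submodules. -/
theorem semistable_of_invariant (hX : RegCurve X) (σ : X ⟶ X) [IsIso σ]
    (hσS : σ ≫ (X ↘ Spec (CommRingCat.of k)) = X ↘ Spec (CommRingCat.of k))
    {E : X.Modules} {r : ℕ} (hr : 0 < r) (hE : FlatMod.IsFinLocFreeOfRank r E)
    (φ : (Scheme.Modules.pullback σ).obj E ≅ E)
    (h : ∀ (F : X.Modules) (r' : ℕ) (i : F ⟶ E), Mono i → 0 < r' → FlatMod.IsFinLocFreeOfRank r' F →
      (∃ j : (Scheme.Modules.pullback σ).obj F ⟶ F, j ≫ i = (Scheme.Modules.pullback σ).map i ≫ φ.hom) →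
      Curv2.deg k X F r' * (r : ℤ) ≤ Curv2.deg k X E r * (r' : ℤ))
    (G : X.Modules) (r' : ℕ) (g : G ⟶ E) (hg : Mono g) (hr' : 0 < r') (hG : FlatMod.IsFinLocFreeOfRank r' G) :
    Curv2.deg k X G r' * (r : ℤ) ≤ Curv2.deg k X E r * (r' : ℤ) := by
  haveI := CurveRR.isNoetherian_of_proper k X
  haveI : X.IsSeparated := ⟨by
    rw [← terminal.comp_from (X ↘ Spec (CommRingCat.of k))]; infer_instance⟩
  obtain ⟨F, r₁, i, hi, hr₁, hF, hmax, hrk⟩ := exists_max_slope k hX hr hE
  haveI := hi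
  haveI : Mono ((Scheme.Modules.pullback σ).map i) := FlatFunLib.mono_pullback_of_flat σ i
  have hd : Curv2.deg k X ((Scheme.Modules.pullback σ).obj F) r₁ = Curv2.deg k X F r₁ := by
    simp only [Curv2.deg]
    have he := QuotProj.euler_pullback_iso (k := k) (asIso σ) hσS F (CurveRR.isCoh_of_rank hF).1
    rw [asIso_hom] at he
    rw [he]
  obtain ⟨j, hj⟩ := factors_of_max k hX hE hr₁ hF i hmax hrk (CurveRR.Multi.isFinLocFreeOfRank_pullback σ hF)
    ((Scheme.Modules.pullback σ).map i ≫ φ.hom) hd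
  have h₁ := h F r₁ i hi hr₁ hF ⟨j, hj⟩
  have h₂ := hmax G r' g hg hr' hG
  have hpos : (0 : ℤ) < r₁ := by exact_mod_cast hr₁
  refine le_of_mul_le_mul_right ?_ hpos
  nlinarith [mul_le_mul_of_nonneg_left h₂ (Int.natCast_nonneg r), mul_le_mul_of_nonneg_left h₁ (Int.natCast_nonneg r')]

end Groth.Agent.MaxInv

end
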